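import Groth.Agent.GaBid87.Main
import Groth.Agent.GaFppf87.Basic
import Groth.Agent.S13357
import Mathlib.RingTheory.Flat.Rank

/-!
# The dual of Frobenius on the additive group

In characteristic `p` the dual of Frobenius is a monomorphism of the character sheaf of `G_a` whose cokernel is
isomorphic to the kernel of Frobenius, the isomorphism being the linear coefficient.
-/

set_option autoImplicit false
set_option linter.style.haveILetI false
set_option linter.unusedSectionVars false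

universe u

open CategoryTheory CategoryTheory.Limits AlgebraicGeometry Opposite MonObj GrpObj MonoidalCategory CartesianMonoidalCategory
open CategoryTheory.Abelian
open Groth.Agent.SGA1Torsor Groth.Agent.GaExt87 Groth.Agent.GaFrob87 Groth.Agent.GaLoc87 Groth.Agent.GaBid87

noncomputable section

namespace Groth.Agent.GaFrobDual87

local notation "Kf" => Scheme.fppfPrecoverage

section Sections

variable {S : Scheme.{u}}

/-- A morphism of sheaves from its values. -/
def mkSh {F G : BigSite.Ab Kf S} (f : ∀ T : Over S, BigSite.sect Kf F T →+ BigSite.sect Kf G T)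
    (hf : ∀ (T T' : Over S) (k : T' ⟶ T) (x : BigSite.sect Kf F T), rr G k (f T x) = f T' (rr F k x)) : F ⟶ G :=
  ⟨{ app := fun U => AddCommGrpCat.ofHom (f U.unop)
     naturality := fun U U' k => AddCommGrpCat.ext fun x => (hf U.unop U'.unop k.unop x).symm }⟩

theorem exists_preimage {C : ShortComplex (BigSite.Ab Kf S)} (hC : C.Exact) [Mono C.f] {W : Over S}
    (x : BigSite.sect Kf C.X₂ W) (hx : sap C.g W x = 0) : ∃ y, sap C.f W y = x := by
  let Φ : BigSite.Ab Kf S ⥤ AddCommGrpCat.{u + 1} := sheafToPresheaf _ _ ⋙ (evaluation _ _).obj (op W)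
  have : PreservesFiniteLimits Φ := comp_preservesFiniteLimits _ _
  have : Mono (Φ.map C.f) := inferInstance
  have h1 := (C.map Φ).exact_of_f_is_kernel (KernelFork.mapIsLimit _ hC.fIsKernel Φ)
  rw [ShortComplex.ab_exact_iff] at h1
  exact h1 x hx

theorem sap_comp {F G H : BigSite.Ab Kf S} (f : F ⟶ G) (g : G ⟶ H) (W : Over S) (x : BigSite.sect Kf F W) :
    sap (f ≫ g) W x = sap g W (sap f W x) := rfl

theorem sap_zero {F G : BigSite.Ab Kf S} (W : Over S) (x : BigSite.sect Kf F W) :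
    sap (0 : F ⟶ G) W x = 0 := rfl

theorem sap_injective {F G : BigSite.Ab Kf S} (f : F ⟶ G) [Mono f] (W : Over S) : Function.Injective (sap f W) := by
  intro x y h
  let Φ : BigSite.Ab Kf S ⥤ AddCommGrpCat.{u + 1} := sheafToPresheaf _ _ ⋙ (evaluation _ _).obj (op W)
  have : PreservesFiniteLimits Φ := comp_preservesFiniteLimits _ _
  exact (AddCommGrpCat.mono_iff_injective (Φ.map f)).1 inferInstance h

theorem aF_inj {W : Over S} {z z' : BigSite.sect Kf (CGrpSh2.Ga Kf S) W} (h : aF z = aF z') : z = z' :=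
  ULift.ext _ _ (congrArg Additive.ofMul (RedPts.ga_injective h))

theorem aF_zero {W : Over S} : aF (0 : BigSite.sect Kf (CGrpSh2.Ga Kf S) W) = 0 := by
  have h := aF_add (0 : BigSite.sect Kf (CGrpSh2.Ga Kf S) W) 0
  rw [add_zero] at h
  exact left_eq_add.1 h

end Sections

section DualMap

variable {S : Scheme.{u}} {F F' G : BigSite.Ab Kf S}

theorem appS_dualMap (f : F ⟶ F') {W Z : Over S} (z : BigSite.sect Kf (HomSh.homSh (QuotSh.J Kf S) F' G) W)
    (g : Z ⟶ W) (x : BigSite.sect Kf F Z) :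
    appS (show F.over W ⟶ G.over W from sap (((HomSh.homShBi (QuotSh.J Kf S)).flip.obj G).map f.op) W z) g x =
      appS (show F'.over W ⟶ G.over W from z) g (sap f Z x) := rfl

theorem appS_rr {W W' W'' : Over S} (z : BigSite.sect Kf (HomSh.homSh (QuotSh.J Kf S) F G) W)
    (k : W' ⟶ W) (g : W'' ⟶ W') (x : BigSite.sect Kf F W'') :
    appS (show F.over W' ⟶ G.over W' from rr (HomSh.homSh (QuotSh.J Kf S) F G) k z) g x =
      appS (show F.over W ⟶ G.over W from z) (g ≫ k) x := rfl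

end DualMap

section Charts

variable {R : Type u} [CommRing R]

local notation "S₀" => Spec (CommRingCat.of R)
local notation "jR" => 𝟙 (Spec (CommRingCat.of R))

theorem exists_chart (T : Over S₀) (x : T.left) :
    ∃ (D : Type u) (_ : CommRing D) (_ : Algebra R D) (g : QA jR D ⟶ T),
      IsOpenImmersion g.left ∧ x ∈ Set.range g.left := by
  obtain ⟨V, hV, hxV, -⟩ := exists_isAffineOpen_mem_and_subset (show x ∈ (⊤ : T.left.Opens) from trivial)
  let k : Spec Γ(T.left, V) ⟶ S₀ := hV.fromSpec ≫ T.hom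
  letI : Algebra R Γ(T.left, V) := (Spec.preimage k).hom.toAlgebra
  have hk : Spec.map (CommRingCat.ofHom (algebraMap R Γ(T.left, V))) = k := Spec.map_preimage k
  refine ⟨Γ(T.left, V), inferInstance, inferInstance, Over.homMk hV.fromSpec ?_,
    (inferInstance : IsOpenImmersion hV.fromSpec), ?_⟩
  · show hV.fromSpec ≫ T.hom = Spec.map _ ≫ 𝟙 _
    rw [hk, Category.comp_id]
  · show x ∈ Set.range hV.fromSpec
    rw [hV.range_fromSpec]
    exact hxV

theorem ext_charts (F : BigSite.Ab Kf S₀) {T : Over S₀} {z z' : BigSite.sect Kf F T}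
    (h : ∀ (D : Type u) [CommRing D] [Algebra R D] (g : QA jR D ⟶ T), rr F g z = rr F g z') : z = z' := by
  choose D _ _ g hg hm using exists_chart T
  exact eq_of_cover F (fun x => QA jR (D x)) g (zariski_cover _ _ hg fun x => ⟨x, hm x⟩) fun x => h _ (g x)

theorem hom_ext_charts {F G : BigSite.Ab Kf S₀} {f f' : F ⟶ G}
    (h : ∀ (D : Type u) [CommRing D] [Algebra R D] (z : BigSite.sect Kf F (QA jR D)), sap f _ z = sap f' _ z) :
    f = f' :=
  Sheaf.hom_ext (NatTrans.ext (funext fun U => AddCommGrpCat.ext fun z =>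
    ext_charts G fun D _ _ g => by
      show rr G g (sap f U.unop z) = rr G g (sap f' U.unop z)
      rw [← sap_rr, ← sap_rr, h]))

theorem mono_of_charts {F G : BigSite.Ab Kf S₀} (f : F ⟶ G)
    (h : ∀ (D : Type u) [CommRing D] [Algebra R D] (z : BigSite.sect Kf F (QA jR D)), sap f _ z = 0 → z = 0) :
    Mono f :=
  Preadditive.mono_of_cancel_zero f fun k hk => hom_ext_charts fun D _ _ z => h D _ (by
    rw [← sap_comp, hk, sap_zero])

/-! ### the linear coefficient of a character on a chart -/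

variable {D : Type u} [CommRing D] [Algebra R D]

/-- The polynomial of a section of the dual. -/
def pol (z : BigSite.sect Kf (CGrpSh2.dualSh Kf (CGrpSh2.Ga Kf S₀)) (QA jR D)) : Polynomial D :=
  chP (show (CGrpSh2.Ga Kf S₀).over (QA jR D) ⟶ (CGrpSh2.Gm Kf S₀).over (QA jR D) from z)

theorem isCh_pol (z : BigSite.sect Kf (CGrpSh2.dualSh Kf (CGrpSh2.Ga Kf S₀)) (QA jR D)) : IsCh (pol z) :=
  isCh_chP _

theorem pol_eq (z : BigSite.sect Kf (CGrpSh2.dualSh Kf (CGrpSh2.Ga Kf S₀)) (QA jR D)) :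
    pol z = fn jR (Polynomial D) (gF (appS (show (CGrpSh2.Ga Kf S₀).over (QA jR D) ⟶
      (CGrpSh2.Gm Kf S₀).over (QA jR D) from z) (lineMap jR D) (pE (gaQ jR (Polynomial.X : Polynomial D))))) := rfl

theorem chP_phiP {P : Polynomial D} (hP : IsCh P) : chP (phiP jR hP) = P := by
  rw [chP, val_phiP, gaQ, RedPts.gaFn_gaPt, ← Category.id_comp (lineMap jR D), psi_qmap, psi_id]
  refine (fn jR (Polynomial D)).symm.injective ?_
  rw [RingEquiv.symm_apply_apply]
  refine (Polynomial.hom_eval₂ P (IsScalarTower.toAlgHom R D (Polynomial D)).toRingHom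
    ((fn jR (Polynomial D)).symm.toRingHom) Polynomial.X).symm.trans ?_
  exact congrArg _ Polynomial.eval₂_C_X

theorem pol_dS {P : Polynomial D} (hP : IsCh P) : pol (dS (phiP jR hP)) = P := chP_phiP hP

theorem dS_phiP_pol (z : BigSite.sect Kf (CGrpSh2.dualSh Kf (CGrpSh2.Ga Kf S₀)) (QA jR D)) :
    z = dS (phiP jR (isCh_pol z)) :=
  eq_phiP (show (CGrpSh2.Ga Kf S₀).over (QA jR D) ⟶ (CGrpSh2.Gm Kf S₀).over (QA jR D) from z)

theorem pol_inj {z z' : BigSite.sect Kf (CGrpSh2.dualSh Kf (CGrpSh2.Ga Kf S₀)) (QA jR D)} (h : pol z = pol z') :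
    z = z' := by
  rw [dS_phiP_pol z, dS_phiP_pol z', phiP_congr (isCh_pol z) (isCh_pol z') h]

theorem pol_add (z z' : BigSite.sect Kf (CGrpSh2.dualSh Kf (CGrpSh2.Ga Kf S₀)) (QA jR D)) :
    pol (z + z') = pol z * pol z' := by
  conv_lhs => rw [dS_phiP_pol z, dS_phiP_pol z', ← dS_add, ← phiP_mul]
  exact pol_dS _

theorem pol_zero : pol (0 : BigSite.sect Kf (CGrpSh2.dualSh Kf (CGrpSh2.Ga Kf S₀)) (QA jR D)) = 1 := by
  have h : dS (phiP jR (IsCh.one (D := D))) + dS (phiP jR (IsCh.one (D := D))) = dS (phiP jR (IsCh.one (D := D))) + 0 := by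
    rw [add_zero, ← dS_add, ← phiP_mul, phiP_congr (IsCh.one.mul IsCh.one) IsCh.one (_root_.one_mul 1)]
  rw [← add_left_cancel h, pol_dS]

/-- The linear coefficient. -/
def cS : BigSite.sect Kf (CGrpSh2.dualSh Kf (CGrpSh2.Ga Kf S₀)) (QA jR D) →+ D :=
  AddMonoidHom.mk' (fun z => (pol z).coeff 1) fun z z' => by
    show (pol (z + z')).coeff 1 = _
    rw [pol_add, Polynomial.coeff_mul, show Finset.HasAntidiagonal.antidiagonal 1 = {((0 : ℕ), 1), (1, 0)} from rfl,
      Finset.sum_pair (by simp), Polynomial.coeff_zero_eq_eval_zero, Polynomial.coeff_zero_eq_eval_zero,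
      (isCh_pol z).1, (isCh_pol z').1, _root_.one_mul, _root_.mul_one, add_comm]

theorem pol_rr_coeff {D' : Type u} [CommRing D'] [Algebra R D'] (g : QA jR D' ⟶ QA jR D)
    (z : BigSite.sect Kf (CGrpSh2.dualSh Kf (CGrpSh2.Ga Kf S₀)) (QA jR D)) (f : D →+* D')
    (hf : ∀ x, fn jR D' (g.left.appTop ((fn jR D).symm x)) = f x) :
    (pol (rr _ g z)).coeff 1 = f ((pol z).coeff 1) := by
  suffices h : pol (rr _ g z) = (pol z).map f by rw [h, Polynomial.coeff_map]
  let φ : (CGrpSh2.Ga Kf S₀).over (QA jR D) ⟶ (CGrpSh2.Gm Kf S₀).over (QA jR D) := z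
  rw [pol_eq, appS_rr]
  show fn jR (Polynomial D') (val φ (lineMap jR D' ≫ g) (gaQ jR Polynomial.X)) = _
  rw [val_eq, gaQ, RedPts.gaFn_gaPt]
  refine (fn jR (Polynomial D')).symm.injective ?_
  rw [RingEquiv.symm_apply_apply]
  have e : psi (lineMap jR D' ≫ g) =
      ((fn jR (Polynomial D')).symm.toRingHom.comp Polynomial.C).comp f := RingHom.ext fun x => by
    show (lineMap jR D').left.appTop (g.left.appTop ((fn jR D).symm x)) = _
    rw [← (fn jR D').symm_apply_apply (g.left.appTop ((fn jR D).symm x)), app_symm, hf]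
    rfl
  rw [e, ← Polynomial.eval₂_map]
  refine (Polynomial.hom_eval₂ _ Polynomial.C ((fn jR (Polynomial D')).symm.toRingHom) Polynomial.X).symm.trans ?_
  rw [Polynomial.eval₂_C_X]
  rfl

end Charts

section Frobenius

variable (p : ℕ) [hp : Fact p.Prime] {R : Type u} [CommRing R] [CharP R p]

local notation "S₀" => Spec (CommRingCat.of R)
local notation "jR" => 𝟙 (Spec (CommRingCat.of R))

theorem exists_factor {D : Type u} [CommRing D] [Algebra R D] {P : Polynomial D} (hP : IsCh P) :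
    ∃ (d : D) (Q : Polynomial D), d ^ p = 0 ∧ IsCh Q ∧ P = Ech p 0 d * Polynomial.expand D p Q ∧ P.coeff 1 = d := by
  have hp2 := hp.out.two_le
  rcases subsingleton_or_nontrivial D with hD | hD
  · exact ⟨0, 1, Subsingleton.elim _ _, IsCh.one, Subsingleton.elim _ _, Subsingleton.elim _ _⟩
  haveI : CharP D p := ringChar.of_eq (CharP.ringChar_of_prime_eq_zero hp.out (natCast_zero (A := R) p D))
  obtain ⟨N, a, ha, he⟩ := (Groth.Agent.S13357.result p D P).1 hP
  have he' : P = ∏ n ∈ Finset.range N, Ech p n (a n) := by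
    rw [he]; exact Finset.prod_congr rfl fun n _ => (Ech_eq p (natCast_zero (A := R) p D) n (a n)).symm
  obtain ⟨d, Q, hd, hQ, hPQ⟩ : ∃ (d : D) (Q : Polynomial D), d ^ p = 0 ∧ IsCh Q ∧
      P = Ech p 0 d * Polynomial.expand D p Q := by
    cases N with
    | zero =>
      refine ⟨0, 1, zero_pow hp.out.ne_zero, IsCh.one, ?_⟩
      rw [he', Finset.range_zero, Finset.prod_empty, map_one, _root_.mul_one, Ech, map_zero, zero_mul,
        ee_eq_one_add p (natCast_zero (A := R) p (Polynomial D)) (by simp), add_zero]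
    | succ N =>
      refine ⟨a 0, ∏ n ∈ Finset.range N, Ech p n (a (n + 1)), ha 0, ?_, ?_⟩
      · exact Finset.prod_induction _ IsCh (fun _ _ => IsCh.mul) IsCh.one fun n _ => isCh_Ech (A := R) p n (ha (n + 1))
      · rw [he', Finset.prod_range_succ', _root_.mul_comm, map_prod]
        refine congrArg _ (Finset.prod_congr rfl fun n _ => ?_)
        rw [Ech, Ech]
        refine Eq.trans ?_ (map_ee p (Polynomial.expand D p).toRingHom _).symm
        congr 1
        show _ = Polynomial.expand D p _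
        rw [map_mul, map_pow, Polynomial.expand_C, Polynomial.expand_X, ← pow_mul, pow_succ, _root_.mul_comm p]
  refine ⟨d, Q, hd, hQ, hPQ, ?_⟩
  have e0 : (Polynomial.expand D p Q).coeff 0 = 1 := by
    rw [Polynomial.coeff_expand hp.out.pos, if_pos (dvd_zero p), Nat.zero_div, Polynomial.coeff_zero_eq_eval_zero, hQ.1]
  have e1 : (Polynomial.expand D p Q).coeff 1 = 0 := by
    rw [Polynomial.coeff_expand hp.out.pos, if_neg (fun h => by have := Nat.le_of_dvd one_pos h; omega)]
  rw [hPQ, Polynomial.coeff_mul, show Finset.HasAntidiagonal.antidiagonal 1 = {((0 : ℕ), 1), (1, 0)} from rfl,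
    Finset.sum_pair (by simp), e0, e1, mul_zero, zero_add, _root_.mul_one,
    Ech_eq p (natCast_zero (A := R) p D), Polynomial.finset_sum_coeff, Finset.sum_eq_single 1]
  · simp
  · intro j _ hj
    rw [Polynomial.coeff_C_mul_X_pow, if_neg (by simpa using Ne.symm hj)]
  · intro h
    exact absurd (Finset.mem_range.2 (by omega)) h

variable {Fs : CGrpSh2.Ga Kf (Spec (CommRingCat.of R)) ⟶ CGrpSh2.Ga Kf (Spec (CommRingCat.of R))}

/-- The dual of an endomorphism of the additive group. -/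
def Fd (Fs : CGrpSh2.Ga Kf S₀ ⟶ CGrpSh2.Ga Kf S₀) :
    CGrpSh2.dualSh Kf (CGrpSh2.Ga Kf S₀) ⟶ CGrpSh2.dualSh Kf (CGrpSh2.Ga Kf S₀) :=
  (CGrpSh2.dualFunctor Kf S₀).map Fs.op

theorem appS_Fd {W Z : Over S₀} (z : BigSite.sect Kf (CGrpSh2.dualSh Kf (CGrpSh2.Ga Kf S₀)) W) (g : Z ⟶ W)
    (x : BigSite.sect Kf (CGrpSh2.Ga Kf S₀) Z) :
    appS (show (CGrpSh2.Ga Kf S₀).over W ⟶ (CGrpSh2.Gm Kf S₀).over W from sap (Fd Fs) W z) g x =
      appS (show (CGrpSh2.Ga Kf S₀).over W ⟶ (CGrpSh2.Gm Kf S₀).over W from z) g (sap Fs Z x) :=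
  appS_dualMap Fs z g x

theorem pol_Fd (hFs : ∀ (W : Over S₀) (z : BigSite.sect Kf (CGrpSh2.Ga Kf S₀) W), aF (sap Fs W z) = aF z ^ p)
    {D : Type u} [CommRing D] [Algebra R D]
    (z : BigSite.sect Kf (CGrpSh2.dualSh Kf (CGrpSh2.Ga Kf S₀)) (QA jR D)) :
    pol (sap (Fd Fs) (QA jR D) z) = Polynomial.expand D p (pol z) := by
  obtain ⟨q, hq⟩ := exists_pE (sap Fs (QA jR (Polynomial D)) (pE (gaQ jR (Polynomial.X : Polynomial D))))
  rw [pol_eq, appS_Fd, hq]
  show fn jR (Polynomial D) (val (show (CGrpSh2.Ga Kf S₀).over (QA jR D) ⟶ (CGrpSh2.Gm Kf S₀).over (QA jR D) from z)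
    (lineMap jR D) q) = _
  have hq' := congrArg aF hq
  rw [hFs, aF_pE, aF_pE, gaQ, RedPts.gaFn_gaPt] at hq'
  rw [val_eq, ← hq', ← Category.id_comp (lineMap jR D), psi_qmap, psi_id, ← map_pow]
  refine (fn jR (Polynomial D)).symm.injective ?_
  rw [RingEquiv.symm_apply_apply]
  exact (Polynomial.hom_eval₂ (pol z) (IsScalarTower.toAlgHom R D (Polynomial D)).toRingHom
    ((fn jR (Polynomial D)).symm.toRingHom) (Polynomial.X ^ p)).symm

variable (hFs : ∀ (W : Over (Spec (CommRingCat.of R))) (z : BigSite.sect Kf (CGrpSh2.Ga Kf (Spec (CommRingCat.of R))) W),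
  aF (sap Fs W z) = aF z ^ p)

include hFs

theorem exists_Fd {D : Type u} [CommRing D] [Algebra R D]
    {z : BigSite.sect Kf (CGrpSh2.dualSh Kf (CGrpSh2.Ga Kf S₀)) (QA jR D)} (hz : cS z = 0) :
    ∃ w, sap (Fd Fs) (QA jR D) w = z := by
  obtain ⟨d, Q, -, hQ, hPQ, hd⟩ := exists_factor p (R := R) (isCh_pol z)
  have hd0 : d = 0 := hd.symm.trans hz
  refine ⟨dS (phiP jR hQ), pol_inj ?_⟩
  rw [pol_Fd p hFs, pol_dS, hPQ, hd0, Ech, map_zero, zero_mul,
    ee_eq_one_add p (natCast_zero (A := R) p (Polynomial D)) (by simp), add_zero, _root_.one_mul]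

theorem mono_Fd : Mono (Fd Fs) := by
  refine mono_of_charts _ fun D _ _ z hz => pol_inj ?_
  have h := pol_Fd p hFs z
  rw [hz, pol_zero] at h
  rw [pol_zero]
  exact Polynomial.expand_injective hp.out.pos (h.symm.trans (map_one _).symm)

theorem epi_Fs : Epi Fs := by
  refine Preadditive.epi_of_cancel_zero _ fun {H} k hk => hom_ext_charts fun D _ _ z => ?_
  obtain ⟨c, hc⟩ : ∃ c : D, (fn jR D).symm c = aF z := ⟨fn jR D (aF z), (fn jR D).symm_apply_apply _⟩
  let f : Polynomial D := Polynomial.X ^ p - Polynomial.C c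
  have hf : f.Monic := Polynomial.monic_X_pow_sub_C c hp.out.ne_zero
  haveI : Module.Free D (AdjoinRoot f) := hf.free_adjoinRoot
  haveI : Module.Finite D (AdjoinRoot f) := hf.finite_adjoinRoot
  haveI : Module.FinitePresentation D (AdjoinRoot f) := Module.finitePresentation_of_projective D _
  let e : QA jR (AdjoinRoot f) ⟶ QA jR D := qmap jR (IsScalarTower.toAlgHom R D (AdjoinRoot f))
  have hfl : Module.Flat D (AdjoinRoot f) := inferInstance
  have hfP : Algebra.FinitePresentation D (AdjoinRoot f) := inferInstance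
  have hinj : Function.Injective (algebraMap D (AdjoinRoot f)) := by
    rcases subsingleton_or_nontrivial D with hD | hD
    · exact fun _ _ _ => Subsingleton.elim _ _
    · refine (injective_iff_map_eq_zero _).2 fun x hx => ?_
      have h1 := (Polynomial.modByMonic_eq_zero_iff_dvd hf).2 (AdjoinRoot.mk_eq_zero.1 (show AdjoinRoot.mk f (Polynomial.C x) = 0 from hx))
      rw [(Polynomial.modByMonic_eq_self_iff hf).2 (lt_of_le_of_lt Polynomial.degree_C_le (by
        rw [Polynomial.degree_X_pow_sub_C hp.out.pos c]; exact_mod_cast hp.out.pos))] at h1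
      exact Polynomial.C_eq_zero.1 h1
  have hflat : Flat e.left := HasRingHomProperty.Spec_iff.2 (RingHom.flat_algebraMap_iff.2 hfl)
  have hfp : LocallyOfFinitePresentation e.left :=
    HasRingHomProperty.Spec_iff.2 (RingHom.finitePresentation_algebraMap.2 hfP)
  have hsu : Surjective e.left := ⟨PrimeSpectrum.comap_surjective_iff_injective_of_finite.2 hinj⟩
  refine eq_of_cover H (fun _ : PUnit.{u + 1} => QA jR (AdjoinRoot f)) (fun _ => e)
    (by rw [Presieve.ofArrows_pUnit]; exact e.left.singleton_mem_fppfPrecoverage) fun _ => ?_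
  have hr : rr (CGrpSh2.Ga Kf S₀) e z = sap Fs _ (pE (gaQ jR (AdjoinRoot.root f))) := aF_inj (by
    rw [aF_rr, hFs, aF_pE, gaQ, RedPts.gaFn_gaPt, ← map_pow, ← hc, app_symm]
    refine congrArg _ ?_
    have h := AdjoinRoot.eval₂_root f
    simp only [f, Polynomial.eval₂_sub, Polynomial.eval₂_X_pow, Polynomial.eval₂_C] at h
    exact (sub_eq_zero.1 h).symm)
  rw [sap_zero, map_zero, ← sap_rr, hr, ← sap_comp, hk, sap_zero]

omit hFs

/-- The exponential character. -/
def expS {T : Over S₀} (a : Γ(T.left, ⊤)) (ha : a ^ p = 0) :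
    (CGrpSh2.Ga Kf S₀).over T ⟶ (CGrpSh2.Gm Kf S₀).over T :=
  mkHom (fun W g => AddMonoidHom.mk' (fun z => mE (Units.mkOfMulEqOne (ee p (g.left.appTop a * aF z))
      (ee p (g.left.appTop a * -aF z)) (by
        letI : Algebra R Γ(W.left, ⊤) := (strR (j := jR) (Over.homMk W.hom (Category.comp_id _))).toAlgebra
        have hd : g.left.appTop a ^ p = 0 := by rw [← map_pow, ha, map_zero]
        have h := (isCh_Ech (A := R) p 0 hd).eval_mul_neg (aF z)
        rwa [eval_Ech, eval_Ech, pow_zero, pow_one, pow_one] at h))) (fun z z' => gF_inj (by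
    letI : Algebra R Γ(W.left, ⊤) := (strR (j := jR) (Over.homMk W.hom (Category.comp_id _))).toAlgebra
    have hd : g.left.appTop a ^ p = 0 := by rw [← map_pow, ha, map_zero]
    have h := (isCh_Ech (A := R) p 0 hd).eval_add (RingHom.id _) (aF z) (aF z')
    simp only [Polynomial.eval₂_id, eval_Ech, pow_zero, pow_one] at h
    rw [gF_add, gF_mE, gF_mE, gF_mE]
    show ee p (_ * aF (z + z')) = ee p _ * ee p _
    rw [aF_add]
    exact h)))
    (fun W W' k g z => gF_inj (by
      show gF (rr (CGrpSh2.Gm Kf S₀) k (mE _)) = gF (mE _)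
      rw [gF_rr, gF_mE, gF_mE]
      show k.left.appTop.hom (ee p (g.left.appTop a * aF z)) = ee p ((k ≫ g).left.appTop a * aF (rr (CGrpSh2.Ga Kf S₀) k z))
      rw [map_ee, map_mul, aF_rr]
      rfl))

theorem appS_expS {T W : Over S₀} (a : Γ(T.left, ⊤)) (ha : a ^ p = 0) (g : W ⟶ T)
    (z : BigSite.sect Kf (CGrpSh2.Ga Kf S₀) W) :
    gF (appS (expS p a ha) g z) = ee p (g.left.appTop a * aF z) := gF_mE _

theorem cS_expS {T : Over S₀} (a : Γ(T.left, ⊤)) (ha : a ^ p = 0) {D : Type u} [CommRing D] [Algebra R D]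
    (g : QA jR D ⟶ T) :
    cS (rr (CGrpSh2.dualSh Kf (CGrpSh2.Ga Kf S₀)) g (dS (expS p a ha))) = fn jR D (g.left.appTop a) := by
  obtain ⟨c, hc⟩ : ∃ c : D, (fn jR D).symm c = g.left.appTop a := ⟨_, (fn jR D).symm_apply_apply _⟩
  have e : pol (rr (CGrpSh2.dualSh Kf (CGrpSh2.Ga Kf S₀)) g (dS (expS p a ha))) = Ech p 0 c := by
    refine (fn jR (Polynomial D)).symm.injective ?_
    refine ((fn jR (Polynomial D)).symm_apply_apply _).trans ?_
    rw [val, appS_rr_dS, appS_expS, aF_pE, gaQ, RedPts.gaFn_gaPt, Ech, pow_zero, pow_one,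
      show (fn jR (Polynomial D)).symm (ee p (Polynomial.C c * Polynomial.X)) = _ from
        map_ee p (fn jR (Polynomial D)).symm.toRingHom _]
    refine congrArg (ee p) (Eq.trans ?_ (map_mul (fn jR (Polynomial D)).symm _ _).symm)
    refine congrArg (· * _) ?_
    show (lineMap jR D).left.appTop (g.left.appTop a) = _
    rw [← hc, app_symm]
    rfl
  show (pol _).coeff 1 = _
  rw [e, ← hc, RingEquiv.apply_symm_apply, Ech_eq p (natCast_zero (A := R) p D), Polynomial.finset_sum_coeff,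
    Finset.sum_eq_single 1]
  · simp
  · intro j _ hj
    rw [Polynomial.coeff_C_mul_X_pow, if_neg (by simpa using Ne.symm hj)]
  · intro h
    exact absurd (Finset.mem_range.2 hp.out.one_lt) h

include hFs

theorem kernel_pow {T : Over S₀} (k : BigSite.sect Kf (kernel Fs) T) : aF (sap (kernel.ι Fs) T k) ^ p = 0 := by
  rw [← hFs, ← sap_comp, kernel.condition, sap_zero, aF_zero]

theorem eq_of_cS {T : Over S₀} {z z' : BigSite.sect Kf (CGrpSh2.dualSh Kf (CGrpSh2.Ga Kf S₀)) T}
    (h : ∀ (D : Type u) [CommRing D] [Algebra R D] (g : QA jR D ⟶ T),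
      cS (rr _ g z) = cS (rr _ g z')) :
    sap (cokernel.π (Fd Fs)) T z = sap (cokernel.π (Fd Fs)) T z' :=
  ext_charts _ fun D _ _ g => by
    obtain ⟨w, hw⟩ := exists_Fd p hFs (z := rr _ g z - rr _ g z') (by rw [map_sub, h D g, sub_self])
    rw [← sub_eq_zero, ← sap_rr, ← sap_rr, ← map_sub, ← hw, ← sap_comp, cokernel.condition, sap_zero]

theorem thetaFun_add {T : Over S₀} (k k' : BigSite.sect Kf (kernel Fs) T) :
    sap (cokernel.π (Fd Fs)) T (dS (expS p _ (kernel_pow p hFs (k + k')))) =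
      sap (cokernel.π (Fd Fs)) T (dS (expS p _ (kernel_pow p hFs k))) +
        sap (cokernel.π (Fd Fs)) T (dS (expS p _ (kernel_pow p hFs k'))) := by
  refine Eq.trans ?_ (map_add (sap (cokernel.π (Fd Fs)) T) _ _)
  refine eq_of_cS p hFs fun D _ _ g => ?_
  rw [cS_expS, map_add, map_add, map_add, cS_expS, cS_expS, aF_add, map_add, map_add]

theorem thetaFun_rr (T T' : Over S₀) (f : T' ⟶ T) (k : BigSite.sect Kf (kernel Fs) T) :
    rr (cokernel (Fd Fs)) f (sap (cokernel.π (Fd Fs)) T (dS (expS p _ (kernel_pow p hFs k)))) =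
      sap (cokernel.π (Fd Fs)) T' (dS (expS p _ (kernel_pow p hFs (rr (kernel Fs) f k)))) := by
  rw [← sap_rr]
  refine eq_of_cS p hFs fun D _ _ g => ?_
  rw [← rr_comp, cS_expS, cS_expS, sap_rr, aF_rr]
  rfl

/-- The comparison from the kernel of Frobenius to the cokernel of its dual. -/
def theta : kernel Fs ⟶ cokernel (Fd Fs) :=
  mkSh (fun T => AddMonoidHom.mk' (fun k => sap (cokernel.π (Fd Fs)) T (dS (expS p _ (kernel_pow p hFs k))))
    (fun k k' => thetaFun_add p hFs k k')) (fun T T' f k => thetaFun_rr p hFs T T' f k)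

theorem sap_theta {T : Over S₀} (k : BigSite.sect Kf (kernel Fs) T) :
    sap (theta p hFs) T k = sap (cokernel.π (Fd Fs)) T (dS (expS p _ (kernel_pow p hFs k))) := rfl

theorem isIso_theta : IsIso (theta p hFs) := by
  haveI := mono_Fd p hFs
  haveI : Mono (theta p hFs) := mono_of_charts _ fun D _ _ k hk => by
    rw [sap_theta] at hk
    obtain ⟨w, hw⟩ := exists_preimage (ShortComplex.exact_cokernel (Fd Fs)) _ hk
    have h1 := cS_expS p _ (kernel_pow p hFs k) (𝟙 (QA jR D))
    rw [rr_id, ← hw] at h1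
    have h2 : cS (sap (Fd Fs) _ w) = 0 := by
      show (pol _).coeff 1 = 0
      rw [pol_Fd p hFs, Polynomial.coeff_expand hp.out.pos,
        if_neg (fun h => by have := Nat.le_of_dvd one_pos h; have := hp.out.two_le; omega)]
    refine sap_injective (kernel.ι Fs) _ (aF_inj ?_)
    rw [map_zero, aF_zero]
    exact ((fn jR D).injective (h2.symm.trans h1 |>.trans rfl |>.symm.trans (map_zero _).symm))
  haveI : Epi (theta p hFs) := by
    refine Preadditive.epi_of_cancel_zero _ fun {H} f hf => ?_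
    rw [← cancel_epi (cokernel.π (Fd Fs)), comp_zero]
    refine hom_ext_charts fun D _ _ z => ?_
    obtain ⟨d, Q, hd, -, -, hz⟩ := exists_factor p (R := R) (isCh_pol z)
    obtain ⟨k, hk⟩ := exists_preimage (ShortComplex.exact_kernel Fs) (pE (gaQ jR d)) (aF_inj (by
      rw [hFs, aF_pE, gaQ, RedPts.gaFn_gaPt, ← map_pow, hd, map_zero, aF_zero]))
    have e : sap (cokernel.π (Fd Fs)) _ z = sap (theta p hFs) _ k := by
      rw [sap_theta]
      refine eq_of_cS p hFs fun D' _ _ g => ?_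
      obtain ⟨f', hf'⟩ : ∃ f' : D →+* D', ∀ x, fn jR D' (g.left.appTop ((fn jR D).symm x)) = f' x :=
        ⟨((fn jR D').toRingHom.comp g.left.appTop.hom).comp (fn jR D).symm.toRingHom, fun x => rfl⟩
      rw [cS_expS, show aF (sap (kernel.ι Fs) _ k) = (fn jR D).symm d from by
        rw [show sap (kernel.ι Fs) _ k = pE (gaQ jR d) from hk, aF_pE, gaQ, RedPts.gaFn_gaPt], hf']
      show (pol (rr _ g z)).coeff 1 = _
      rw [← hz]
      exact pol_rr_coeff g z f' hf'
    rw [sap_comp, e, ← sap_comp, hf, sap_zero, sap_zero]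
  exact isIso_of_mono_of_epi _

theorem subsingleton_H_cokernel (n : ℕ) (hn : 2 ≤ n) :
    Subsingleton (BigSite.H Kf S₀ (cokernel (Fd Fs)) n) := by
  obtain ⟨m, rfl⟩ : ∃ m, n = m + 1 := ⟨n - 1, by omega⟩
  haveI := epi_Fs p hFs
  haveI := isIso_theta p hFs
  have hK : (ShortComplex.mk (kernel.ι Fs) Fs (kernel.condition Fs)).ShortExact :=
    { exact := ShortComplex.exact_kernel Fs }
  haveI : Subsingleton (BigSite.H Kf S₀ (kernel Fs) (m + 1)) := by
    refine subsingleton_of_forall_eq 0 fun x => ?_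
    obtain ⟨y, rfl⟩ := Ext.covariant_sequence_exact₁ _ hK x
      ((GaFppf87.subsingleton_H_Ga _ (m + 1) m.succ_pos).elim _ _) rfl
    rw [(GaFppf87.subsingleton_H_Ga _ m (by omega)).elim y 0, Ext.zero_comp]
  refine subsingleton_of_forall_eq 0 fun x => ?_
  have h : x.comp (Ext.mk₀ (inv (theta p hFs))) (add_zero (m + 1)) = 0 :=
    Subsingleton.elim (α := BigSite.H Kf S₀ (kernel Fs) (m + 1)) _ _
  calc x = x.comp (Ext.mk₀ (inv (theta p hFs) ≫ theta p hFs)) (add_zero (m + 1)) := by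
        rw [IsIso.inv_hom_id, Ext.comp_mk₀_id]
    _ = 0 := by rw [← Ext.mk₀_comp_mk₀, ← Ext.comp_assoc_of_third_deg_zero, h, Ext.zero_comp]

theorem bijective_H_map_Fd (i : ℕ) (hi : 2 < i) : Function.Bijective (Sheaf.H.map (Fd Fs) i) := by
  obtain ⟨m, rfl⟩ : ∃ m, i = m + 1 := ⟨i - 1, by omega⟩
  haveI := mono_Fd p hFs
  have hC : (ShortComplex.mk (Fd Fs) (cokernel.π (Fd Fs)) (cokernel.condition _)).ShortExact :=
    { exact := ShortComplex.exact_cokernel _ }
  refine ⟨(injective_iff_map_eq_zero _).2 fun x hx => ?_, fun y => ?_⟩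
  · obtain ⟨w, rfl⟩ := Ext.covariant_sequence_exact₁ _ hC x hx rfl
    rw [(subsingleton_H_cokernel p hFs m (by omega)).elim w 0, Ext.zero_comp]
  · exact Ext.covariant_sequence_exact₂ _ hC y ((subsingleton_H_cokernel p hFs (m + 1) (by omega)).elim _ _)

end Frobenius

end Groth.Agent.GaFrobDual87
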